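import Cfsg.Agent.Lib.Helper53.SUReg.Basic
import Cfsg.Agent.Lib.Helper37.UnitaryGen

set_option autoImplicit false

/-!
helper53, S2282, module [ACT]: the action of the root elements `tauU`, `sigU`, `siegU` on vectors,
and extensionality for the elements of `SU_n(q)`.
-/

namespace Cfsg.Agent.Lib.Helper53.SUReg

open Matrix Cfsg.Agent.S0837 Cfsg.Agent.S0781 Cfsg.Agent.S2644

variable {n : ℕ} {F : Type*} [Field F] {σ : F →+* F} {q : ℕ}

local notation "SLn" => Matrix.SpecialLinearGroup (Fin n) F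
local notation "Mn" => Matrix (Fin n) (Fin n) F

theorem su_hf (hσq : ∀ x, σ x = x ^ q) (g : ↥(Cfsg.SU n F q)) (x y : Fin n → F) :
    hf σ (((g : SLn) : Mn) *ᵥ x) (((g : SLn) : Mn) *ᵥ y) = hf σ x y := by
  rw [← hermForm_eq_hf σ hσq, ← hermForm_eq_hf σ hσq]
  exact su_form q g x y

theorem su_ext {g h : ↥(Cfsg.SU n F q)}
    (hgh : ∀ v : Fin n → F, ((g : SLn) : Mn) *ᵥ v = ((h : SLn) : Mn) *ᵥ v) : g = h := by
  apply Subtype.ext
  apply Subtype.ext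
  rw [Matrix.ext_iff_mulVec]
  exact hgh

theorem mul_mulVec (g h : ↥(Cfsg.SU n F q)) (v : Fin n → F) :
    (((g * h : ↥(Cfsg.SU n F q)) : SLn) : Mn) *ᵥ v =
      ((g : SLn) : Mn) *ᵥ (((h : SLn) : Mn) *ᵥ v) := by
  rw [Subgroup.coe_mul, Matrix.SpecialLinearGroup.coe_mul, Matrix.mulVec_mulVec]

theorem one_mulVec' (v : Fin n → F) : (((1 : ↥(Cfsg.SU n F q)) : SLn) : Mn) *ᵥ v = v := by
  rw [Subgroup.coe_one, Matrix.SpecialLinearGroup.coe_one, Matrix.one_mulVec]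

theorem inv_mulVec_mulVec (g : ↥(Cfsg.SU n F q)) (v : Fin n → F) :
    (((g⁻¹ : ↥(Cfsg.SU n F q)) : SLn) : Mn) *ᵥ (((g : SLn) : Mn) *ᵥ v) = v := by
  rw [← mul_mulVec, inv_mul_cancel, one_mulVec']

theorem mulVec_inv_mulVec (g : ↥(Cfsg.SU n F q)) (v : Fin n → F) :
    ((g : SLn) : Mn) *ᵥ ((((g⁻¹ : ↥(Cfsg.SU n F q)) : SLn) : Mn) *ᵥ v) = v := by
  rw [← mul_mulVec, mul_inv_cancel, one_mulVec']

/-- the matrix of a Siegel element -/
theorem siegU_coe (hσq : ∀ x, σ x = x ^ q) (hσ2 : ∀ x, σ (σ x) = x) {x w : Fin n → F} {β : F}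
    (hx : hf σ x x = 0) (hw : hf σ w x = 0) (hβ : β + σ β + hf σ w w = 0) :
    (((siegU σ q x w β : ↥(Cfsg.SU n F q)) : SLn) : Mn) = sieg σ x w β := by
  unfold siegU
  apply matU_coe q _ (sieg_det σ hσ2 x w β hx hw)
  intro y z
  rw [hermForm_eq_hf σ hσq, hermForm_eq_hf σ hσq]
  exact sieg_preserves σ hσ2 x w β hx hw hβ y z

/-- the general Siegel element acts as expected -/
theorem siegU_mulVec (hσq : ∀ x, σ x = x ^ q) (hσ2 : ∀ x, σ (σ x) = x) {x w : Fin n → F} {β : F}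
    (hx : hf σ x x = 0) (hw : hf σ w x = 0) (hβ : β + σ β + hf σ w w = 0) (v : Fin n → F) :
    (((siegU σ q x w β : ↥(Cfsg.SU n F q)) : SLn) : Mn) *ᵥ v =
      v + hf σ v x • (w + β • x) - hf σ v w • x := by
  rw [siegU_coe hσq hσ2 hx hw hβ, sieg_mulVec]

theorem tauU_eq_siegU (x : Fin n → F) (t : F) :
    (tauU σ q x t : ↥(Cfsg.SU n F q)) = siegU σ q x 0 (t - σ t) := rfl

theorem sigU_eq_siegU {x y : Fin n → F} (hxy : hf σ x y = 0) (s : F) :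
    (sigU σ q x y s : ↥(Cfsg.SU n F q)) = siegU σ q y (s • x) 0 := by
  unfold sigU siegU
  rw [if_pos hxy]

theorem sigU_of_ne {x y : Fin n → F} (hxy : hf σ x y ≠ 0) (s : F) :
    (sigU σ q x y s : ↥(Cfsg.SU n F q)) = 1 := by
  unfold sigU
  rw [if_neg hxy]

theorem tauU_mulVec (hσq : ∀ x, σ x = x ^ q) (hσ2 : ∀ x, σ (σ x) = x) {x : Fin n → F}
    (hx : hf σ x x = 0) (t : F) (v : Fin n → F) :
    (((tauU σ q x t : ↥(Cfsg.SU n F q)) : SLn) : Mn) *ᵥ v = v + ((t - σ t) * hf σ v x) • x := by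
  rw [tauU_eq_siegU, siegU_mulVec hσq hσ2 hx (hf_zero_left σ x)
    (by rw [hf_zero_left, map_sub, hσ2]; ring)]
  rw [hf_zero_right, zero_smul, sub_zero, zero_add, smul_smul, mul_comm]

theorem sigU_mulVec (hσq : ∀ x, σ x = x ^ q) (hσ2 : ∀ x, σ (σ x) = x) {x y : Fin n → F}
    (hx : hf σ x x = 0) (hy : hf σ y y = 0) (hxy : hf σ x y = 0) (s : F) (v : Fin n → F) :
    (((sigU σ q x y s : ↥(Cfsg.SU n F q)) : SLn) : Mn) *ᵥ v =
      v + (s * hf σ v y) • x - (σ s * hf σ v x) • y := by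
  rw [sigU_eq_siegU hxy, siegU_mulVec hσq hσ2 hy (by rw [hf_smul_left, hxy, mul_zero])
    (by rw [hf_smul_left, hf_smul_right, hx]; simp)]
  rw [hf_smul_right, zero_smul, add_zero, smul_smul, mul_comm (hf σ v y) s]

end Cfsg.Agent.Lib.Helper53.SUReg
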