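import Cfsg.Agent.Lib.Helper53.SUReg.Defs

set_option autoImplicit false

/-!
helper53, S2282: further definitions: `InQ` (membership in the part of the unipotent radical of the
stabiliser of an isotropic vector that lies in `H`) and the rank function `rk` of the model.
-/

namespace Cfsg.Agent.Lib.Helper53.SUReg

open Matrix Cfsg.Agent.S0837 Cfsg.Agent.S0781 Cfsg.Agent.S2644

/-- `w ⊥ a` and all Siegel elements `siegU a w β` lie in `H` -/
def InQ {n : ℕ} {F : Type*} [Field F] (σ : F →+* F) (q : ℕ) (H : Subgroup ↥(Cfsg.SU n F q))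
    (a w : Fin n → F) : Prop :=
  hf σ w a = 0 ∧ ∀ β : F, β + σ β + hf σ w w = 0 → siegU σ q a w β ∈ H

/-- the rank function of the model: `uM - 1` maps the basis vector of rank `r` to a non-zero multiple of
the basis vector of rank `r + 1` plus terms of higher rank -/
def rk (m : ℕ) : MI m → ℕ
  | Sum.inl i => m - 1 - i
  | Sum.inr (Sum.inl _) => m
  | Sum.inr (Sum.inr j) => m + 1 + j

end Cfsg.Agent.Lib.Helper53.SUReg
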