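import Cfsg.Agent.Lib.Helper53.SUReg.Act

set_option autoImplicit false

/-!
helper53, S2282, module [GRAM]: the orbit `a_k = uvec q u a k` and its Gram matrix.
-/

namespace Cfsg.Agent.Lib.Helper53.SUReg

open Matrix Cfsg.Agent.S0837 Cfsg.Agent.S0781 Cfsg.Agent.S2644

variable {n : ℕ} {F : Type*} [Field F] {σ : F →+* F} {q : ℕ}
variable {m : ℕ} {u : ↥(Cfsg.SU n F q)} {a : Fin n → F} {φ : F}

local notation "SLn" => Matrix.SpecialLinearGroup (Fin n) F
local notation "Mn" => Matrix (Fin n) (Fin n) F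

theorem uvec_zpow (i k : ℤ) :
    (((u ^ i : ↥(Cfsg.SU n F q)) : SLn) : Mn) *ᵥ uvec q u a k = uvec q u a (k + i) := by
  unfold uvec
  rw [← mul_mulVec, ← _root_.zpow_add, add_comm]

theorem uvec_succ (k : ℤ) : ((u : SLn) : Mn) *ᵥ uvec q u a k = uvec q u a (k + 1) := by
  have h := uvec_zpow (u := u) (a := a) 1 k
  rwa [zpow_one] at h

theorem uvec_zero : uvec q u a 0 = a := by
  unfold uvec
  rw [zpow_zero, one_mulVec']

theorem gram_shift (hσq : ∀ x, σ x = x ^ q) (j k : ℤ) :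
    hf σ (uvec q u a j) (uvec q u a k) = hf σ a (uvec q u a (k - j)) := by
  have h := su_hf hσq (u ^ (-j)) (uvec q u a j) (uvec q u a k)
  rw [uvec_zpow, uvec_zpow, add_neg_cancel, uvec_zero] at h
  rw [← h]
  congr 2

theorem gram_zero (hσq : ∀ x, σ x = x ^ q) (hσ2 : ∀ x, σ (σ x) = x) (hg : UGood σ q m u a φ)
    (j k : ℤ) (h : |j - k| < (m : ℤ)) : hf σ (uvec q u a j) (uvec q u a k) = 0 := by
  rw [abs_lt] at h
  rcases le_total j k with hjk | hjk
  · rw [gram_shift hσq]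
    obtain ⟨d, hd⟩ := Int.eq_ofNat_of_zero_le (sub_nonneg.mpr hjk)
    rw [hd]
    apply hg.gram0
    have : (d : ℤ) < m := by rw [← hd]; linarith
    exact_mod_cast this
  · rw [hf_symm σ hσ2, gram_shift hσq]
    obtain ⟨d, hd⟩ := Int.eq_ofNat_of_zero_le (sub_nonneg.mpr hjk)
    rw [hd, hg.gram0, map_zero]
    have : (d : ℤ) < m := by rw [← hd]; linarith
    exact_mod_cast this

theorem gram_phi (hσq : ∀ x, σ x = x ^ q) (hg : UGood σ q m u a φ) (j : ℤ) :
    hf σ (uvec q u a j) (uvec q u a (j + m)) = φ := by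
  rw [gram_shift hσq, add_sub_cancel_left]
  exact hg.gramm

theorem gram_phi' (hσq : ∀ x, σ x = x ^ q) (hσ2 : ∀ x, σ (σ x) = x) (hg : UGood σ q m u a φ)
    (j : ℤ) : hf σ (uvec q u a (j + m)) (uvec q u a j) = σ φ := by
  rw [hf_symm σ hσ2, gram_phi hσq hg]

end Cfsg.Agent.Lib.Helper53.SUReg
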