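import Cfsg.Agent.Lib.Helper53.SUReg.Calc1
import Cfsg.Agent.Lib.Helper53.SUReg.Gram
import Cfsg.Agent.Lib.Helper23.SU3GHilb

set_option autoImplicit false

/-!
helper53, S2282, module [WEYL]: an element of `H` fixing the line of `a_0` and moving `a_{-1}` out of
the span of the `a_k`, `|k| < m`.
-/

namespace Cfsg.Agent.Lib.Helper53.SUReg

open Matrix Cfsg.Agent.S0837 Cfsg.Agent.S0781 Cfsg.Agent.S2644

variable {n : ℕ} {F : Type*} [Field F] {σ : F →+* F} {q : ℕ}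
variable {m : ℕ} {u : ↥(Cfsg.SU n F q)} {a : Fin n → F} {φ : F}

local notation "SLn" => Matrix.SpecialLinearGroup (Fin n) F
local notation "Mn" => Matrix (Fin n) (Fin n) F

theorem exists_not_fixed (hσ : σ ≠ RingHom.id F) : ∃ x : F, σ x ≠ x := by
  by_contra hcon
  push Not at hcon
  exact hσ (RingHom.ext hcon)

theorem exists_g (hσq : ∀ x, σ x = x ^ q) (hσ : σ ≠ RingHom.id F) (hσ2 : ∀ x, σ (σ x) = x)
    (hm : 2 ≤ m) (hφ : φ ≠ 0) (hg : UGood σ q m u a φ) (H : Subgroup ↥(Cfsg.SU n F q))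
    (hu : u ∈ H) (hT : ∀ (k : ℤ) (x : F), tauU σ q (uvec q u a k) x ∈ H) :
    ∃ (g : ↥(Cfsg.SU n F q)) (μ c₁ c₂ : F), g ∈ H ∧ μ ≠ 0 ∧
      ((g : SLn) : Mn) *ᵥ a = μ • a ∧
      ((g : SLn) : Mn) *ᵥ uvec q u a (-1) =
        uvec q u a (-(m : ℤ) - 1) + c₁ • a + c₂ • uvec q u a (-(m : ℤ)) := by
  obtain ⟨x, hx⟩ := exists_not_fixed hσ
  set c : F := x - σ x with hc
  have hc0 : c ≠ 0 := by
    rw [hc]; intro h; exact hx (sub_eq_zero.mp h).symm
  have hσc : σ c = -c := by rw [hc, map_sub, hσ2]; ring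
  have hσφ : σ φ ≠ 0 := by
    intro h; apply hφ; rw [← hσ2 φ, h, map_zero]
  set c' : F := -(c * (φ * σ φ))⁻¹ with hc'
  have hden : c * (φ * σ φ) ≠ 0 := mul_ne_zero hc0 (mul_ne_zero hφ hσφ)
  have hc'0 : c' ≠ 0 := by rw [hc']; exact neg_ne_zero.mpr (inv_ne_zero hden)
  have hcc' : c * c' * (φ * σ φ) = -1 := by
    rw [hc']; field_simp
  have hσc' : c' + σ c' = 0 := by
    have h1 : σ c' = -(σ c * (σ φ * σ (σ φ)))⁻¹ := by
      rw [hc', map_neg, map_inv₀, map_mul, map_mul]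
    rw [h1, hσc, hσ2, hc']
    have : -c * (σ φ * φ) = -(c * (φ * σ φ)) := by ring
    rw [this, inv_neg]; ring
  obtain ⟨x', hx'⟩ := Cfsg.Agent.Lib.Helper23.SU3G.exists_sub_eq σ hσ hσ2 c' hσc'
  -- the vectors
  have hm1 : 1 ≤ m := by omega
  have ha0 : uvec q u a 0 = a := uvec_zero
  set b : Fin n → F := uvec q u a (m : ℤ) with hb
  have haa : hf σ a a = 0 := by
    have := gram_zero (σ := σ) hσq hσ2 hg 0 0 (by rw [sub_self, abs_zero]; exact_mod_cast hm1)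
    rwa [ha0] at this
  have hbb : hf σ b b = 0 :=
    gram_zero hσq hσ2 hg m m (by rw [sub_self, abs_zero]; exact_mod_cast hm1)
  have hab : hf σ a b = φ := by
    have := gram_phi (σ := σ) hσq hg 0
    rwa [ha0, zero_add] at this
  have hba : hf σ b a = σ φ := by rw [hf_symm σ hσ2, hab]
  set e : Fin n → F := uvec q u a (-1) with he
  have hea : hf σ e a = 0 := by
    have := gram_zero (σ := σ) hσq hσ2 hg (-1) 0 (by
      rw [abs_lt]; constructor <;> push_cast <;> omega)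
    rwa [ha0] at this
  set ψ : F := hf σ e b with hψ
  -- the element
  set n' : ↥(Cfsg.SU n F q) := tauU σ q a x * tauU σ q b x' * tauU σ q a x with hn'
  have hn'H : n' ∈ H := by
    have h1 : tauU σ q a x ∈ H := by
      have := hT 0 x
      rwa [ha0] at this
    exact H.mul_mem (H.mul_mem h1 (hT m x')) h1
  have tA : ∀ v : Fin n → F, ((tauU σ q a x : ↥(Cfsg.SU n F q)) : SLn).1 *ᵥ v =
      v + (c * hf σ v a) • a := fun v => tauU_mulVec hσq hσ2 haa x v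
  have tB : ∀ v : Fin n → F, ((tauU σ q b x' : ↥(Cfsg.SU n F q)) : SLn).1 *ᵥ v =
      v + (c' * hf σ v b) • b := fun v => by rw [tauU_mulVec hσq hσ2 hbb x' v, hx']
  have hn'a : ((n' : SLn) : Mn) *ᵥ a = (c' * φ) • b := by
    rw [hn', mul_mulVec, mul_mulVec, tA a, haa, mul_zero, zero_smul, add_zero, tB a, hab, tA,
      hf_add_left, hf_smul_left, haa, hba]
    have : c * (0 + c' * φ * σ φ) = -1 := by linear_combination hcc'
    rw [this]
    module
  have hn'e : ((n' : SLn) : Mn) *ᵥ e = e + (c' * ψ) • b + (c * c' * ψ * σ φ) • a := by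
    rw [hn', mul_mulVec, mul_mulVec, tA e, hea, mul_zero, zero_smul, add_zero, tB e, ← hψ, tA,
      hf_add_left, hf_smul_left, hea, hba]
    module
  refine ⟨u ^ (-(m : ℤ)) * n', c' * φ, c' * ψ, c * c' * ψ * σ φ,
    H.mul_mem (H.zpow_mem hu _) hn'H, mul_ne_zero hc'0 hφ, ?_, ?_⟩
  · rw [mul_mulVec, hn'a, Matrix.mulVec_smul, hb, uvec_zpow, add_neg_cancel, ha0]
  · rw [mul_mulVec, hn'e, Matrix.mulVec_add, Matrix.mulVec_add, Matrix.mulVec_smul,
      Matrix.mulVec_smul, he, hb, uvec_zpow, uvec_zpow, add_neg_cancel, ha0]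
    have h1 : uvec q u a (-(m : ℤ)) = ((u ^ (-(m : ℤ)) : ↥(Cfsg.SU n F q)) : SLn).1 *ᵥ a := rfl
    have e1 : (-1 : ℤ) + -(m : ℤ) = -(m : ℤ) - 1 := by ring
    rw [e1, ← h1]

end Cfsg.Agent.Lib.Helper53.SUReg
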