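import Mathlib
import Cfsg.Prelude.Def_Classical
import Cfsg.Agent.S0837
import Cfsg.Agent.S0781
import Cfsg.Agent.S2644

set_option autoImplicit false

/-!
helper53, S2282 (`SU_n(q)`, `n = 2m+1` odd, is generated by three conjugate regular unipotent
elements): definitions.

* `URootSys F σ G m φ`: an abstract family of "long root elements" `T k x` (the unitary transvection
  at `a_k` with parameter `x - σ x`) and "Siegel elements" `S j k s` (`j k : ℤ`, `s : F`) in a group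
  `G`, with the relations satisfied when `a_k = u^k a` is the orbit of an isotropic vector `a` with
  `h(a_j, a_k) = 0` for `|j - k| < m` and `h(a_j, a_{j+m}) = φ`.
* `UGen R H x₀ s₀ s₁`: the hypotheses on the subgroup `H`.
* the concrete elements `matU`, `tauU`, `sigU`, `siegU` of `Cfsg.SU n F q` and the orbit `uvec`.
* `UGood`: the hypotheses on the pair `(u, a)`.
* the explicit model (`hM`, `uM`, `aM`) on the index type `Fin m ⊕ Unit ⊕ Fin m`.
-/

namespace Cfsg.Agent.Lib.Helper53.SUReg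

open Matrix Cfsg.Agent.S0837 Cfsg.Agent.S0781 Cfsg.Agent.S2644

/-- abstract root elements indexed by `ℤ` with the relations of the unitary window calculus;
`⁅A, B⁆ = X` is written `A * B = X * B * A` -/
structure URootSys (F : Type*) [Field F] (σ : F →+* F) (G : Type*) [Group G] (m : ℕ) (φ : F) where
  T : ℤ → F → G
  S : ℤ → ℤ → F → G
  sh : G ≃* G
  T_add : ∀ (k : ℤ) (x y : F), T k (x + y) = T k x * T k y
  T_fix : ∀ (k : ℤ) (x : F), σ x = x → T k x = 1
  S_add : ∀ (j k : ℤ) (s t : F), S j k (s + t) = S j k s * S j k t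
  S_symm : ∀ (j k : ℤ) (s : F), S k j s = S j k (-σ s)
  sh_T : ∀ (k : ℤ) (x : F), sh (T k x) = T (k + 1) x
  sh_S : ∀ (j k : ℤ) (s : F), sh (S j k s) = S (j + 1) (k + 1) s
  TT_comm : ∀ (j k : ℤ) (x y : F), |j - k| < (m : ℤ) → Commute (T j x) (T k y)
  TS_comm : ∀ (l j k : ℤ) (x s : F), |l - j| < (m : ℤ) → |l - k| < (m : ℤ) →
    Commute (T l x) (S j k s)
  SS_comm : ∀ (j k l p : ℤ) (s t : F), |j - l| < (m : ℤ) → |j - p| < (m : ℤ) →
    |k - l| < (m : ℤ) → |k - p| < (m : ℤ) → Commute (S j k s) (S l p t)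
  rel_TSp : ∀ (l k : ℤ) (x s : F), l < k → k < l + (m : ℤ) →
    T l x * S (l + (m : ℤ)) k s =
      S l k (s * (x - σ x) * σ φ) * T k (-(s * φ * σ (s * φ) * x)) * S (l + (m : ℤ)) k s * T l x
  rel_TSm : ∀ (l k : ℤ) (x s : F), l - (m : ℤ) < k → k < l →
    T l x * S (l - (m : ℤ)) k s =
      S l k (s * (x - σ x) * φ) * T k (-(s * φ * σ (s * φ) * x)) * S (l - (m : ℤ)) k s * T l x
  rel_SSa : ∀ (j k p : ℤ) (s t : F), k - (m : ℤ) < j → j < k → k - (m : ℤ) < p → p < k → j ≠ p →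
    S j k s * S (k - (m : ℤ)) p t = S j p (s * t * φ) * S (k - (m : ℤ)) p t * S j k s
  rel_SSb : ∀ (j k p : ℤ) (s t : F), k < j → j < k + (m : ℤ) → k < p → p < k + (m : ℤ) → j ≠ p →
    S j k s * S (k + (m : ℤ)) p t = S j p (s * t * σ φ) * S (k + (m : ℤ)) p t * S j k s
  rel_SS3 : ∀ (j k : ℤ) (s t : F), j < k → k < j + (m : ℤ) →
    S j k s * S (j + (m : ℤ)) k t = T k (s * σ t * φ) * S (j + (m : ℤ)) k t * S j k s

/-- the hypotheses on the subgroup `H`: it is invariant under the shift and contains the elements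
`g_k g_j⁻¹` (`g_k = T k x₀ * S k (k+1) s₁`) and `h_k h_j⁻¹` (`h_k = S k (k+1) s₀`) -/
structure UGen {F : Type*} [Field F] {σ : F →+* F} {G : Type*} [Group G] {m : ℕ} {φ : F}
    (R : URootSys F σ G m φ) (H : Subgroup G) (x₀ s₀ s₁ : F) : Prop where
  sh_mem : ∀ x, R.sh x ∈ H ↔ x ∈ H
  hX : ∀ j k : ℤ, (R.T k x₀ * R.S k (k + 1) s₁) * (R.T j x₀ * R.S j (j + 1) s₁)⁻¹ ∈ H
  hE : ∀ j k : ℤ, R.S k (k + 1) s₀ * (R.S j (j + 1) s₀)⁻¹ ∈ H

section concrete

variable {n : ℕ} {F : Type*} [Field F]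

open Classical in
/-- the element of `SU_n(q)` with matrix `M` (`1` if `M` is not in `SU_n(q)`) -/
noncomputable def matU (q : ℕ) (M : Matrix (Fin n) (Fin n) F) : ↥(Cfsg.SU n F q) :=
  if h : M.det = 1 ∧ ∀ x y, Cfsg.hermForm n F q (M *ᵥ x) (M *ᵥ y) = Cfsg.hermForm n F q x y
  then ⟨⟨M, h.1⟩, h.2⟩ else 1

theorem matU_coe (q : ℕ) (M : Matrix (Fin n) (Fin n) F) (h1 : M.det = 1)
    (h2 : ∀ x y, Cfsg.hermForm n F q (M *ᵥ x) (M *ᵥ y) = Cfsg.hermForm n F q x y) :
    (((matU q M : ↥(Cfsg.SU n F q)) : Matrix.SpecialLinearGroup (Fin n) F) :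
      Matrix (Fin n) (Fin n) F) = M := by
  unfold matU
  rw [dif_pos ⟨h1, h2⟩]

/-- elements of `SU_n(q)` preserve the hermitian form -/
theorem su_form (q : ℕ) (g : ↥(Cfsg.SU n F q)) (x y : Fin n → F) :
    Cfsg.hermForm n F q
      (((g : Matrix.SpecialLinearGroup (Fin n) F) : Matrix (Fin n) (Fin n) F) *ᵥ x)
      (((g : Matrix.SpecialLinearGroup (Fin n) F) : Matrix (Fin n) (Fin n) F) *ᵥ y) =
      Cfsg.hermForm n F q x y :=
  g.2 x y

/-- the unitary transvection `v ↦ v + (t - σ t) h(v,x) x` -/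
noncomputable def tauU (σ : F →+* F) (q : ℕ) (x : Fin n → F) (t : F) : ↥(Cfsg.SU n F q) :=
  matU q (tv σ x (t - σ t))

open Classical in
/-- the Siegel element `v ↦ v + s h(v,y) x - σ s h(v,x) y` of an orthogonal isotropic pair
(`1` unless `h(x,y) = 0`) -/
noncomputable def sigU (σ : F →+* F) (q : ℕ) (x y : Fin n → F) (s : F) : ↥(Cfsg.SU n F q) :=
  if hf σ x y = 0 then matU q (sieg σ y (s • x) 0) else 1

/-- the general Siegel (Eichler) element `v ↦ v + h(v,x)(w + β x) - h(v,w) x` -/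
noncomputable def siegU (σ : F →+* F) (q : ℕ) (x w : Fin n → F) (β : F) : ↥(Cfsg.SU n F q) :=
  matU q (sieg σ x w β)

/-- the orbit `a_k = u^k a`, `k : ℤ` -/
noncomputable def uvec (q : ℕ) (u : ↥(Cfsg.SU n F q)) (a : Fin n → F) (k : ℤ) : Fin n → F :=
  (((u ^ k : ↥(Cfsg.SU n F q)) : Matrix.SpecialLinearGroup (Fin n) F) :
    Matrix (Fin n) (Fin n) F) *ᵥ a

/-- the hypotheses on `(u, a)`: Gram conditions, unipotence and cyclicity -/
structure UGood (σ : F →+* F) (q m : ℕ) (u : ↥(Cfsg.SU n F q)) (a : Fin n → F) (φ : F) :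
    Prop where
  gram0 : ∀ d : ℕ, d < m → hf σ a (uvec q u a d) = 0
  gramm : hf σ a (uvec q u a m) = φ
  nil : (((u : Matrix.SpecialLinearGroup (Fin n) F) : Matrix (Fin n) (Fin n) F) - 1) ^ n = 0
  span : ∀ v : Fin n → F,
    v ∈ Submodule.span F (Set.range fun k : Fin n => uvec q u a ((k : ℕ) : ℤ))

end concrete

section model

variable {F : Type*} [Field F]

/-- the index type of the model: `W ⊕ ⟨z⟩ ⊕ W'` -/
abbrev MI (m : ℕ) : Type := Fin m ⊕ Unit ⊕ Fin m

/-- the hermitian form of the model: `W`, `W'` totally isotropic in duality, `z` of norm `1` -/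
def hM (σ : F →+* F) (m : ℕ) (x y : MI m → F) : F :=
  (∑ i : Fin m, (x (Sum.inl i) * σ (y (Sum.inr (Sum.inr i))) +
      x (Sum.inr (Sum.inr i)) * σ (y (Sum.inl i)))) +
    x (Sum.inr (Sum.inl ())) * σ (y (Sum.inr (Sum.inl ())))

/-- the explicit regular unipotent of the model:
`u (x₁; ξ; x₂) = (A x₁; (x₁)₀ + ξ; (σ κ (x₁)₀ - ξ) d₀ + D x₂)`, `A` the upper Jordan block,
`D = A⁻ᵀ`, `d₀` the first column of `D`; it is an isometry iff `κ + σ κ = -1` -/
def uM (σ : F →+* F) (m : ℕ) (κ : F) : Matrix (MI m) (MI m) F :=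
  Matrix.of fun i j =>
    match i, j with
    | Sum.inl i, Sum.inl j => if i = j then 1 else if (i : ℕ) + 1 = j then 1 else 0
    | Sum.inl _, Sum.inr _ => 0
    | Sum.inr (Sum.inl _), Sum.inl j => if (j : ℕ) = 0 then 1 else 0
    | Sum.inr (Sum.inl _), Sum.inr (Sum.inl _) => 1
    | Sum.inr (Sum.inl _), Sum.inr (Sum.inr _) => 0
    | Sum.inr (Sum.inr i), Sum.inl j => if (j : ℕ) = 0 then σ κ * (-1) ^ (i : ℕ) else 0
    | Sum.inr (Sum.inr i), Sum.inr (Sum.inl _) => -(-1) ^ (i : ℕ)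
    | Sum.inr (Sum.inr i), Sum.inr (Sum.inr j) =>
        if (j : ℕ) ≤ i then (-1) ^ ((i : ℕ) - j) else 0

/-- the vector `e_{m-1}` of `W` -/
def aM (m : ℕ) : MI m → F :=
  fun i => match i with
    | Sum.inl i => if (i : ℕ) + 1 = m then 1 else 0
    | Sum.inr _ => 0

end model

end Cfsg.Agent.Lib.Helper53.SUReg
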