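import Cfsg.Agent.Lib.Helper53.SUReg.Defs

set_option autoImplicit false

/-!
helper53, S2282: basic lemmas on `URootSys` and `UGen`.
-/

namespace Cfsg.Agent.Lib.Helper53.SUReg

variable {F : Type*} [Field F] {σ : F →+* F} {G : Type*} [Group G] {m : ℕ} {φ : F}

namespace URootSys

variable (R : URootSys F σ G m φ)

theorem T_zero (k : ℤ) : R.T k 0 = 1 := by
  have h := R.T_add k 0 0
  rw [add_zero] at h
  exact (mul_eq_left).mp h.symm

theorem S_zero (j k : ℤ) : R.S j k 0 = 1 := by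
  have h := R.S_add j k 0 0
  rw [add_zero] at h
  exact (mul_eq_left).mp h.symm

theorem T_neg (k : ℤ) (s : F) : R.T k (-s) = (R.T k s)⁻¹ := by
  rw [eq_inv_iff_mul_eq_one, ← R.T_add, neg_add_cancel, R.T_zero]

theorem S_neg (j k : ℤ) (s : F) : R.S j k (-s) = (R.S j k s)⁻¹ := by
  rw [eq_inv_iff_mul_eq_one, ← R.S_add, neg_add_cancel, R.S_zero]

theorem T_sub (k : ℤ) (s t : F) : R.T k (s - t) = R.T k s * (R.T k t)⁻¹ := by
  rw [sub_eq_add_neg, R.T_add, R.T_neg]

theorem S_sub (j k : ℤ) (s t : F) : R.S j k (s - t) = R.S j k s * (R.S j k t)⁻¹ := by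
  rw [sub_eq_add_neg, R.S_add, R.S_neg]

theorem T_self_comm (k : ℤ) (s t : F) : Commute (R.T k s) (R.T k t) := by
  unfold Commute SemiconjBy
  rw [← R.T_add, ← R.T_add, add_comm]

theorem S_self_comm (j k : ℤ) (s t : F) : Commute (R.S j k s) (R.S j k t) := by
  unfold Commute SemiconjBy
  rw [← R.S_add, ← R.S_add, add_comm]

/-- `T k x` only depends on `x - σ x` -/
theorem T_congr (k : ℤ) (x y : F) (h : x - σ x = y - σ y) : R.T k x = R.T k y := by
  have h1 : σ (x - y) = x - y := by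
    rw [map_sub]; linear_combination -h
  have h2 : R.T k x = R.T k (y + (x - y)) := by
    congr 1; ring
  rw [h2, R.T_add, R.T_fix k (x - y) h1, mul_one]

/-- the iterated shift -/
def shz (i : ℤ) : G ≃* G := (R.sh : MulAut G) ^ i

theorem shz_T (i : ℤ) (k : ℤ) (s : F) : R.shz i (R.T k s) = R.T (k + i) s := by
  unfold shz
  induction i using Int.induction_on generalizing k with
  | zero => simp
  | succ i ih =>
    rw [zpow_add_one, MulAut.mul_apply, R.sh_T, ih]
    congr 1; ring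
  | pred i ih =>
    rw [zpow_sub_one, MulAut.mul_apply]
    have h1 : (R.sh : MulAut G)⁻¹ (R.T k s) = R.T (k - 1) s := by
      rw [MulAut.inv_apply, MulEquiv.symm_apply_eq, R.sh_T]
      congr 1; ring
    rw [h1, ih]
    congr 1; ring

theorem shz_S (i : ℤ) (j k : ℤ) (s : F) : R.shz i (R.S j k s) = R.S (j + i) (k + i) s := by
  unfold shz
  induction i using Int.induction_on generalizing j k with
  | zero => simp
  | succ i ih =>
    rw [zpow_add_one, MulAut.mul_apply, R.sh_S, ih]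
    congr 1 <;> ring
  | pred i ih =>
    rw [zpow_sub_one, MulAut.mul_apply]
    have h1 : (R.sh : MulAut G)⁻¹ (R.S j k s) = R.S (j - 1) (k - 1) s := by
      rw [MulAut.inv_apply, MulEquiv.symm_apply_eq, R.sh_S]
      congr 1 <;> ring
    rw [h1, ih]
    congr 1 <;> ring

/-- the additive group of the parameters `s` with `T k s ∈ H` -/
def Tset (H : Subgroup G) (k : ℤ) : AddSubgroup F where
  carrier := {s | R.T k s ∈ H}
  zero_mem' := by
    show R.T k 0 ∈ H
    rw [R.T_zero]; exact H.one_mem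
  add_mem' := by
    intro s t hs ht
    show R.T k (s + t) ∈ H
    rw [R.T_add]; exact H.mul_mem hs ht
  neg_mem' := by
    intro s hs
    show R.T k (-s) ∈ H
    rw [R.T_neg]; exact H.inv_mem hs

/-- the additive group of the parameters `s` with `S j k s ∈ H` -/
def Sset (H : Subgroup G) (j k : ℤ) : AddSubgroup F where
  carrier := {s | R.S j k s ∈ H}
  zero_mem' := by
    show R.S j k 0 ∈ H
    rw [R.S_zero]; exact H.one_mem
  add_mem' := by
    intro s t hs ht
    show R.S j k (s + t) ∈ H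
    rw [R.S_add]; exact H.mul_mem hs ht
  neg_mem' := by
    intro s hs
    show R.S j k (-s) ∈ H
    rw [R.S_neg]; exact H.inv_mem hs

theorem mem_Tset (H : Subgroup G) (k : ℤ) (s : F) : s ∈ R.Tset H k ↔ R.T k s ∈ H := Iff.rfl

theorem mem_Sset (H : Subgroup G) (j k : ℤ) (s : F) : s ∈ R.Sset H j k ↔ R.S j k s ∈ H := Iff.rfl

/-- `⁅A, B⁆ = X` from a relation `A * B = X * B * A` -/
theorem comm_of_rel {A B X : G} (h : A * B = X * B * A) : X = A * B * A⁻¹ * B⁻¹ := by
  rw [h]; group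

/-- the product relation `rel_SSa`: `S j k s, S (k-m) p t ∈ H ⇒ S j p (s t φ) ∈ H` -/
theorem prodA_mem (H : Subgroup G) (j k p : ℤ) (hj1 : k - (m : ℤ) < j) (hj2 : j < k)
    (hp1 : k - (m : ℤ) < p) (hp2 : p < k) (hjp : j ≠ p) (s t : F) (hs : R.S j k s ∈ H)
    (ht : R.S (k - (m : ℤ)) p t ∈ H) : R.S j p (s * t * φ) ∈ H := by
  rw [comm_of_rel (R.rel_SSa j k p s t hj1 hj2 hp1 hp2 hjp)]
  exact H.mul_mem (H.mul_mem (H.mul_mem hs ht) (H.inv_mem hs)) (H.inv_mem ht)

/-- the product relation `rel_SSb`: `S j k s, S (k+m) p t ∈ H ⇒ S j p (s t σ φ) ∈ H` -/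
theorem prodB_mem (H : Subgroup G) (j k p : ℤ) (hj1 : k < j) (hj2 : j < k + (m : ℤ))
    (hp1 : k < p) (hp2 : p < k + (m : ℤ)) (hjp : j ≠ p) (s t : F) (hs : R.S j k s ∈ H)
    (ht : R.S (k + (m : ℤ)) p t ∈ H) : R.S j p (s * t * σ φ) ∈ H := by
  rw [comm_of_rel (R.rel_SSb j k p s t hj1 hj2 hp1 hp2 hjp)]
  exact H.mul_mem (H.mul_mem (H.mul_mem hs ht) (H.inv_mem hs)) (H.inv_mem ht)

/-- the relation `rel_SS3`: `S j k s, S (j+m) k t ∈ H ⇒ T k (s σ t φ) ∈ H` -/
theorem prod3_mem (H : Subgroup G) (j k : ℤ) (h1 : j < k) (h2 : k < j + (m : ℤ)) (s t : F)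
    (hs : R.S j k s ∈ H) (ht : R.S (j + (m : ℤ)) k t ∈ H) : R.T k (s * σ t * φ) ∈ H := by
  rw [comm_of_rel (R.rel_SS3 j k s t h1 h2)]
  exact H.mul_mem (H.mul_mem (H.mul_mem hs ht) (H.inv_mem hs)) (H.inv_mem ht)

end URootSys

namespace UGen

variable {R : URootSys F σ G m φ} {H : Subgroup G} {x₀ s₀ s₁ : F} (h : UGen R H x₀ s₀ s₁)
include h

theorem shz_mem (i : ℤ) (x : G) : R.shz i x ∈ H ↔ x ∈ H := by
  unfold URootSys.shz
  induction i using Int.induction_on generalizing x with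
  | zero => simp
  | succ i ih =>
    rw [zpow_add_one, MulAut.mul_apply, ih]
    exact h.sh_mem x
  | pred i ih =>
    rw [zpow_sub_one, MulAut.mul_apply, ih]
    rw [← h.sh_mem ((R.sh : MulAut G)⁻¹ x)]
    rw [MulAut.inv_apply, MulEquiv.apply_symm_apply]

/-- membership of a long root element only depends on the parameter -/
theorem T_mem_shift (k k' : ℤ) (s : F) : R.T k s ∈ H ↔ R.T k' s ∈ H := by
  rw [← h.shz_mem (k' - k) (R.T k s), R.shz_T]
  have : k + (k' - k) = k' := by ring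
  rw [this]

/-- membership of a Siegel element only depends on the difference of the indices -/
theorem S_mem_shift (j k : ℤ) (i : ℤ) (s : F) : R.S j k s ∈ H ↔ R.S (j + i) (k + i) s ∈ H := by
  rw [← h.shz_mem i (R.S j k s), R.shz_S]

/-- membership of `S j k s` only depends on `k - j` -/
theorem S_mem_iff (j k j' k' : ℤ) (hjk : k - j = k' - j') (s : F) :
    R.S j k s ∈ H ↔ R.S j' k' s ∈ H := by
  rw [h.S_mem_shift j k (j' - j) s]
  have h1 : j + (j' - j) = j' := by ring
  have h2 : k + (j' - j) = k' := by linarith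
  rw [h1, h2]

end UGen

end Cfsg.Agent.Lib.Helper53.SUReg
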