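import Cfsg.Agent.Lib.Helper42.SURegA1Top
import Cfsg.Agent.Lib.Helper42.SURegTAll
import Cfsg.Agent.Lib.Helper42.SURegDesc

set_option autoImplicit false

/-!
helper53, S2282, module [ABS3]: assembly of the abstract part for `m ≥ 3`.
-/

namespace Cfsg.Agent.Lib.Helper53.SUReg

open Cfsg.Agent.Lib.Helper42.SUReg

variable {F : Type*} [Field F] {σ : F →+* F} {G : Type*} [Group G] {m : ℕ} {φ : F}
variable {R : URootSys F σ G m φ} {H : Subgroup G} {x₀ s₀ s₁ : F}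

/-- [ABS3] all root elements lie in `H` (`m ≥ 3`) -/
theorem all_mem_of_ugen3 (hm : 3 ≤ m) (hσ2 : ∀ x, σ (σ x) = x) (hφ : φ ≠ 0)
    (h : UGen R H x₀ s₀ s₁) (ζ : F) (h0 : s₀ * φ = 1) (h1 : s₁ * φ = ζ) (hζ : σ ζ ≠ ζ)
    (hζq : ∃ k : ℕ, σ ζ = ζ ^ k)
    (hθ : ∀ y : F, σ y = y → y ≠ 0 → ∃ j : ℕ, y = (ζ + σ ζ) ^ j)
    (hx₀ : σ x₀ ≠ x₀) (hTr : ∀ ρ : F, σ ρ = ρ → ∃ y : F, y + σ y = ρ) :
    (∀ (k : ℤ) (x : F), R.T k x ∈ H) ∧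
      (∀ (j k : ℤ), j ≠ k → |j - k| < (m : ℤ) → ∀ s : F, R.S j k s ∈ H) := by
  have hS := S01_all hm hσ2 h ζ h0 h1 hζ hζq hθ
  obtain ⟨hT, hTop⟩ := T_all (by omega) hσ2 hφ h hx₀ hTr hS
  exact ⟨hT, S_all_of_widths hσ2 h (S_widths (by omega) hφ h hTop)⟩

end Cfsg.Agent.Lib.Helper53.SUReg
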