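import Cfsg.Agent.Lib.Helper53.SUReg.Act

set_option autoImplicit false

/-!
helper53, S2282, module [CALC1]: additivity, symmetry and conjugation of the root elements.
-/

namespace Cfsg.Agent.Lib.Helper53.SUReg

open Matrix Cfsg.Agent.S0837 Cfsg.Agent.S0781 Cfsg.Agent.S2644

variable {n : ℕ} {F : Type*} [Field F] {σ : F →+* F} {q : ℕ}

local notation "SLn" => Matrix.SpecialLinearGroup (Fin n) F
local notation "Mn" => Matrix (Fin n) (Fin n) F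

theorem hf_symm0 (hσ2 : ∀ x, σ (σ x) = x) {x y : Fin n → F} (h : hf σ x y = 0) :
    hf σ y x = 0 := by
  rw [hf_symm σ hσ2, h, map_zero]

theorem tauU_add (hσq : ∀ x, σ x = x ^ q) (hσ2 : ∀ x, σ (σ x) = x) {x : Fin n → F}
    (hx : hf σ x x = 0) (s t : F) :
    (tauU σ q x (s + t) : ↥(Cfsg.SU n F q)) = tauU σ q x s * tauU σ q x t := by
  apply su_ext
  intro v
  rw [mul_mulVec, tauU_mulVec hσq hσ2 hx, tauU_mulVec hσq hσ2 hx, tauU_mulVec hσq hσ2 hx]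
  simp only [hf_add_left, hf_smul_left, hx, mul_zero, add_zero, map_add]
  module

theorem matU_one : (matU q (1 : Matrix (Fin n) (Fin n) F) : ↥(Cfsg.SU n F q)) = 1 := by
  unfold matU
  rw [dif_pos ⟨Matrix.det_one, fun x y => by rw [Matrix.one_mulVec, Matrix.one_mulVec]⟩]
  rfl

theorem tauU_fix (x : Fin n → F) (t : F) (ht : σ t = t) :
    (tauU σ q x t : ↥(Cfsg.SU n F q)) = 1 := by
  unfold tauU tv
  rw [ht, sub_self, Cfsg.Agent.Lib.Helper37.sieg_zero, matU_one]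

theorem sigU_add (hσq : ∀ x, σ x = x ^ q) (hσ2 : ∀ x, σ (σ x) = x) {x y : Fin n → F}
    (hx : hf σ x x = 0) (hy : hf σ y y = 0) (s t : F) :
    (sigU σ q x y (s + t) : ↥(Cfsg.SU n F q)) = sigU σ q x y s * sigU σ q x y t := by
  by_cases hxy : hf σ x y = 0
  · have hyx := hf_symm0 hσ2 hxy
    apply su_ext
    intro v
    rw [mul_mulVec, sigU_mulVec hσq hσ2 hx hy hxy, sigU_mulVec hσq hσ2 hx hy hxy,
      sigU_mulVec hσq hσ2 hx hy hxy]
    simp only [hf_add_left, hf_sub_left, hf_smul_left, hx, hy, hxy, hyx, mul_zero, add_zero,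
      sub_zero, map_add]
    module
  · rw [sigU_of_ne hxy, sigU_of_ne hxy, sigU_of_ne hxy, mul_one]

theorem sigU_symm (hσq : ∀ x, σ x = x ^ q) (hσ2 : ∀ x, σ (σ x) = x) {x y : Fin n → F}
    (hx : hf σ x x = 0) (hy : hf σ y y = 0) (s : F) :
    (sigU σ q y x s : ↥(Cfsg.SU n F q)) = sigU σ q x y (-σ s) := by
  by_cases hxy : hf σ x y = 0
  · have hyx := hf_symm0 hσ2 hxy
    apply su_ext
    intro v
    rw [sigU_mulVec hσq hσ2 hy hx hyx, sigU_mulVec hσq hσ2 hx hy hxy]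
    rw [map_neg, hσ2]
    module
  · have hyx : hf σ y x ≠ 0 := fun h => hxy (hf_symm0 hσ2 h)
    rw [sigU_of_ne hxy, sigU_of_ne hyx]

/-- `h(g⁻¹ v, x) = h(v, g x)` -/
theorem hf_inv_left (hσq : ∀ x, σ x = x ^ q) (g : ↥(Cfsg.SU n F q)) (v x : Fin n → F) :
    hf σ ((((g⁻¹ : ↥(Cfsg.SU n F q)) : SLn) : Mn) *ᵥ v) x =
      hf σ v (((g : SLn) : Mn) *ᵥ x) := by
  have h := su_hf hσq g ((((g⁻¹ : ↥(Cfsg.SU n F q)) : SLn) : Mn) *ᵥ v) x
  rw [mulVec_inv_mulVec] at h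
  exact h.symm

theorem conj_siegU (hσq : ∀ x, σ x = x ^ q) (hσ2 : ∀ x, σ (σ x) = x) (g : ↥(Cfsg.SU n F q))
    {x w : Fin n → F} {β : F} (hx : hf σ x x = 0) (hw : hf σ w x = 0)
    (hβ : β + σ β + hf σ w w = 0) :
    g * siegU σ q x w β * g⁻¹ =
      siegU σ q (((g : SLn) : Mn) *ᵥ x) (((g : SLn) : Mn) *ᵥ w) β := by
  apply su_ext
  intro v
  rw [mul_mulVec, mul_mulVec, siegU_mulVec hσq hσ2 hx hw hβ,
    siegU_mulVec hσq hσ2 (by rw [su_hf hσq, hx]) (by rw [su_hf hσq, hw])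
      (by rw [su_hf hσq]; exact hβ)]
  rw [hf_inv_left hσq, hf_inv_left hσq]
  simp only [Matrix.mulVec_add, Matrix.mulVec_sub, Matrix.mulVec_smul, mulVec_inv_mulVec]

theorem conj_tauU (hσq : ∀ x, σ x = x ^ q) (hσ2 : ∀ x, σ (σ x) = x) (g : ↥(Cfsg.SU n F q))
    {x : Fin n → F} (hx : hf σ x x = 0) (t : F) :
    g * tauU σ q x t * g⁻¹ = tauU σ q (((g : SLn) : Mn) *ᵥ x) t := by
  rw [tauU_eq_siegU, tauU_eq_siegU, conj_siegU hσq hσ2 g hx (hf_zero_left σ x)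
    (by rw [hf_zero_left, map_sub, hσ2]; ring), Matrix.mulVec_zero]

theorem conj_sigU (hσq : ∀ x, σ x = x ^ q) (hσ2 : ∀ x, σ (σ x) = x) (g : ↥(Cfsg.SU n F q))
    {x y : Fin n → F} (hx : hf σ x x = 0) (hy : hf σ y y = 0) (s : F) :
    g * sigU σ q x y s * g⁻¹ = sigU σ q (((g : SLn) : Mn) *ᵥ x) (((g : SLn) : Mn) *ᵥ y) s := by
  by_cases hxy : hf σ x y = 0
  · have hxy' : hf σ (((g : SLn) : Mn) *ᵥ x) (((g : SLn) : Mn) *ᵥ y) = 0 := by
      rw [su_hf hσq, hxy]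
    rw [sigU_eq_siegU hxy, sigU_eq_siegU hxy', conj_siegU hσq hσ2 g hy
      (by rw [hf_smul_left, hxy, mul_zero]) (by rw [hf_smul_left, hf_smul_right, hx]; simp),
      Matrix.mulVec_smul]
  · have hxy' : hf σ (((g : SLn) : Mn) *ᵥ x) (((g : SLn) : Mn) *ᵥ y) ≠ 0 := by
      rw [su_hf hσq]; exact hxy
    rw [sigU_of_ne hxy, sigU_of_ne hxy', mul_one, mul_inv_cancel]

end Cfsg.Agent.Lib.Helper53.SUReg
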