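import Cfsg.Agent.Lib.Helper53.SUReg.Calc1
import Cfsg.Agent.Lib.Helper53.SUReg.Gram
import Cfsg.Agent.Lib.Helper36.SURegRel1
import Cfsg.Agent.Lib.Helper36.SURegRel23

set_option autoImplicit false

/-!
helper53, S2282, module [INST]: the root elements of a good pair `(u, a)` form a `URootSys`.
-/

namespace Cfsg.Agent.Lib.Helper53.SUReg

open Matrix Cfsg.Agent.S0837 Cfsg.Agent.S0781 Cfsg.Agent.S2644 Cfsg.Agent.Lib.Helper36.SUReg

variable {n : ℕ} {F : Type*} [Field F] {σ : F →+* F} {q : ℕ} {m : ℕ}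
variable {u : ↥(Cfsg.SU n F q)} {a : Fin n → F} {φ : F}

local notation "SLn" => Matrix.SpecialLinearGroup (Fin n) F
local notation "Mn" => Matrix (Fin n) (Fin n) F

theorem uvec_iso (hσq : ∀ x, σ x = x ^ q) (hσ2 : ∀ x, σ (σ x) = x) (hg : UGood σ q m u a φ)
    (hm : 1 ≤ m) (k : ℤ) : hf σ (uvec q u a k) (uvec q u a k) = 0 := by
  apply gram_zero hσq hσ2 hg
  rw [sub_self, abs_zero]
  exact_mod_cast hm

theorem abs_lt_of {x : ℤ} {m : ℤ} (h1 : -m < x) (h2 : x < m) : |x| < m := abs_lt.mpr ⟨h1, h2⟩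

/-- the root system of a good pair -/
noncomputable def rootSysU (hσq : ∀ x, σ x = x ^ q) (hσ2 : ∀ x, σ (σ x) = x) (hm : 1 ≤ m)
    (hg : UGood σ q m u a φ) : URootSys F σ ↥(Cfsg.SU n F q) m φ where
  T k x := tauU σ q (uvec q u a k) x
  S j k s := sigU σ q (uvec q u a j) (uvec q u a k) s
  sh := MulAut.conj u
  T_add k x y := tauU_add hσq hσ2 (uvec_iso hσq hσ2 hg hm k) x y
  T_fix k x hx := tauU_fix _ x hx
  S_add j k s t := sigU_add hσq hσ2 (uvec_iso hσq hσ2 hg hm j) (uvec_iso hσq hσ2 hg hm k) s t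
  S_symm j k s := sigU_symm hσq hσ2 (uvec_iso hσq hσ2 hg hm j) (uvec_iso hσq hσ2 hg hm k) s
  sh_T k x := by
    rw [MulAut.conj_apply, conj_tauU hσq hσ2 u (uvec_iso hσq hσ2 hg hm k), uvec_succ]
  sh_S j k s := by
    rw [MulAut.conj_apply, conj_sigU hσq hσ2 u (uvec_iso hσq hσ2 hg hm j)
      (uvec_iso hσq hσ2 hg hm k), uvec_succ, uvec_succ]
  TT_comm j k x y h :=
    tau_tau_comm hσq hσ2 (uvec_iso hσq hσ2 hg hm j) (uvec_iso hσq hσ2 hg hm k)
      (gram_zero hσq hσ2 hg j k h) x y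
  TS_comm l j k x s h1 h2 :=
    tau_sig_comm hσq hσ2 (uvec_iso hσq hσ2 hg hm j) (uvec_iso hσq hσ2 hg hm k)
      (uvec_iso hσq hσ2 hg hm l)
      (gram_zero hσq hσ2 hg j l (by rw [abs_sub_comm]; exact h1))
      (gram_zero hσq hσ2 hg k l (by rw [abs_sub_comm]; exact h2)) s x
  SS_comm j k l p s t h1 h2 h3 h4 :=
    sig_sig_comm hσq hσ2 (uvec_iso hσq hσ2 hg hm j) (uvec_iso hσq hσ2 hg hm k)
      (uvec_iso hσq hσ2 hg hm l) (uvec_iso hσq hσ2 hg hm p)
      (gram_zero hσq hσ2 hg j l h1) (gram_zero hσq hσ2 hg j p h2)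
      (gram_zero hσq hσ2 hg k l h3) (gram_zero hσq hσ2 hg k p h4) s t
  rel_TSp l k x s h1 h2 := by
    have hψ : hf σ (uvec q u a (l + (m : ℤ))) (uvec q u a l) = σ φ := gram_phi' hσq hσ2 hg l
    have h := tau_sig_rel hσq hσ2 (uvec_iso hσq hσ2 hg hm (l + (m : ℤ)))
      (uvec_iso hσq hσ2 hg hm k) (uvec_iso hσq hσ2 hg hm l)
      (gram_zero hσq hσ2 hg (l + (m : ℤ)) k (abs_lt_of (by linarith) (by linarith)))
      (gram_zero hσq hσ2 hg k l (abs_lt_of (by linarith) (by linarith))) s x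
    rw [hψ] at h
    have e : s * σ φ * σ (s * σ φ) * x = s * φ * σ (s * φ) * x := by
      rw [map_mul, map_mul, hσ2]; ring
    rw [e] at h
    exact h
  rel_TSm l k x s h1 h2 := by
    have hψ : hf σ (uvec q u a (l - (m : ℤ))) (uvec q u a l) = φ := by
      have := gram_phi (σ := σ) hσq hg (l - (m : ℤ))
      rwa [sub_add_cancel] at this
    have h := tau_sig_rel hσq hσ2 (uvec_iso hσq hσ2 hg hm (l - (m : ℤ)))
      (uvec_iso hσq hσ2 hg hm k) (uvec_iso hσq hσ2 hg hm l)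
      (gram_zero hσq hσ2 hg (l - (m : ℤ)) k (abs_lt_of (by linarith) (by linarith)))
      (gram_zero hσq hσ2 hg k l (abs_lt_of (by linarith) (by linarith))) s x
    rw [hψ] at h
    exact h
  rel_SSa j k p s t h1 h2 h3 h4 _ := by
    have hψ : hf σ (uvec q u a (k - (m : ℤ))) (uvec q u a k) = φ := by
      have := gram_phi (σ := σ) hσq hg (k - (m : ℤ))
      rwa [sub_add_cancel] at this
    have h := sig_sig_rel hσq hσ2 (uvec_iso hσq hσ2 hg hm j) (uvec_iso hσq hσ2 hg hm k)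
      (uvec_iso hσq hσ2 hg hm (k - (m : ℤ))) (uvec_iso hσq hσ2 hg hm p)
      (gram_zero hσq hσ2 hg j k (abs_lt_of (by linarith) (by linarith)))
      (gram_zero hσq hσ2 hg (k - (m : ℤ)) p (abs_lt_of (by linarith) (by linarith)))
      (gram_zero hσq hσ2 hg j (k - (m : ℤ)) (abs_lt_of (by linarith) (by linarith)))
      (gram_zero hσq hσ2 hg j p (abs_lt_of (by linarith) (by linarith)))
      (gram_zero hσq hσ2 hg k p (abs_lt_of (by linarith) (by linarith))) s t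
    rw [hψ] at h
    exact h
  rel_SSb j k p s t h1 h2 h3 h4 _ := by
    have hψ : hf σ (uvec q u a (k + (m : ℤ))) (uvec q u a k) = σ φ := gram_phi' hσq hσ2 hg k
    have h := sig_sig_rel hσq hσ2 (uvec_iso hσq hσ2 hg hm j) (uvec_iso hσq hσ2 hg hm k)
      (uvec_iso hσq hσ2 hg hm (k + (m : ℤ))) (uvec_iso hσq hσ2 hg hm p)
      (gram_zero hσq hσ2 hg j k (abs_lt_of (by linarith) (by linarith)))
      (gram_zero hσq hσ2 hg (k + (m : ℤ)) p (abs_lt_of (by linarith) (by linarith)))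
      (gram_zero hσq hσ2 hg j (k + (m : ℤ)) (abs_lt_of (by linarith) (by linarith)))
      (gram_zero hσq hσ2 hg j p (abs_lt_of (by linarith) (by linarith)))
      (gram_zero hσq hσ2 hg k p (abs_lt_of (by linarith) (by linarith))) s t
    rw [hψ] at h
    exact h
  rel_SS3 j k s t h1 h2 := by
    have hψ : hf σ (uvec q u a j) (uvec q u a (j + (m : ℤ))) = φ := gram_phi hσq hg j
    have h := sig_sig_rel3 hσq hσ2 (uvec_iso hσq hσ2 hg hm j) (uvec_iso hσq hσ2 hg hm k)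
      (uvec_iso hσq hσ2 hg hm (j + (m : ℤ)))
      (gram_zero hσq hσ2 hg j k (abs_lt_of (by linarith) (by linarith)))
      (gram_zero hσq hσ2 hg (j + (m : ℤ)) k (abs_lt_of (by linarith) (by linarith))) s t
    rw [hψ] at h
    exact h

theorem rootSysU_T (hσq : ∀ x, σ x = x ^ q) (hσ2 : ∀ x, σ (σ x) = x) (hm : 1 ≤ m)
    (hg : UGood σ q m u a φ) (k : ℤ) (x : F) :
    (rootSysU hσq hσ2 hm hg).T k x = tauU σ q (uvec q u a k) x := rfl

theorem rootSysU_S (hσq : ∀ x, σ x = x ^ q) (hσ2 : ∀ x, σ (σ x) = x) (hm : 1 ≤ m)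
    (hg : UGood σ q m u a φ) (j k : ℤ) (s : F) :
    (rootSysU hσq hσ2 hm hg).S j k s = sigU σ q (uvec q u a j) (uvec q u a k) s := rfl

theorem rootSysU_sh (hσq : ∀ x, σ x = x ^ q) (hσ2 : ∀ x, σ (σ x) = x) (hm : 1 ≤ m)
    (hg : UGood σ q m u a φ) (x : ↥(Cfsg.SU n F q)) :
    (rootSysU hσq hσ2 hm hg).sh x = u * x * u⁻¹ := rfl

end Cfsg.Agent.Lib.Helper53.SUReg
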