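import Cfsg.Agent.Lib.Helper53.SUReg.Inst

set_option autoImplicit false

/-!
helper53, S2282, module [INSTGEN]: the hypotheses `UGen` for the subgroup generated by the three
conjugates.
-/

namespace Cfsg.Agent.Lib.Helper53.SUReg

open Matrix Cfsg.Agent.S0837 Cfsg.Agent.S0781 Cfsg.Agent.S2644

variable {n : ℕ} {F : Type*} [Field F] {σ : F →+* F} {q : ℕ} {m : ℕ}
variable {u : ↥(Cfsg.SU n F q)} {a : Fin n → F} {φ : F}

theorem shz_eq (hσq : ∀ x, σ x = x ^ q) (hσ2 : ∀ x, σ (σ x) = x) (hm : 1 ≤ m)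
    (hg : UGood σ q m u a φ) (i : ℤ) (x : ↥(Cfsg.SU n F q)) :
    (rootSysU hσq hσ2 hm hg).shz i x = u ^ i * x * (u ^ i)⁻¹ := by
  unfold URootSys.shz
  have : ((rootSysU hσq hσ2 hm hg).sh : MulAut ↥(Cfsg.SU n F q)) = MulAut.conj u := rfl
  rw [this, ← map_zpow, MulAut.conj_apply]

/-- if `u` and `g u g⁻¹` are in `K` then `g (u^r g⁻¹ u^(-r)) ∈ K` -/
theorem conj_comm_mem {G : Type*} [Group G] (K : Subgroup G) (u g : G) (hu : u ∈ K)
    (hg : g * u * g⁻¹ ∈ K) (r : ℤ) : g * (u ^ r * g⁻¹ * (u ^ r)⁻¹) ∈ K := by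
  have h1 : g * u ^ r * g⁻¹ ∈ K := by
    rw [← conj_zpow]; exact K.zpow_mem hg r
  have h2 : (u ^ r)⁻¹ ∈ K := K.inv_mem (K.zpow_mem hu r)
  have : g * (u ^ r * g⁻¹ * (u ^ r)⁻¹) = g * u ^ r * g⁻¹ * (u ^ r)⁻¹ := by group
  rw [this]; exact K.mul_mem h1 h2

/-- [INSTGEN] the three conjugates give the hypotheses `UGen` -/
theorem ugen_of_closure (hσq : ∀ x, σ x = x ^ q) (hσ2 : ∀ x, σ (σ x) = x) (hm : 1 ≤ m)
    (hg : UGood σ q m u a φ) (x₀ s₀ s₁ : F) :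
    UGen (rootSysU hσq hσ2 hm hg)
      (Subgroup.closure ({u,
        ((rootSysU hσq hσ2 hm hg).T 0 x₀ * (rootSysU hσq hσ2 hm hg).S 0 1 s₁) * u *
          ((rootSysU hσq hσ2 hm hg).T 0 x₀ * (rootSysU hσq hσ2 hm hg).S 0 1 s₁)⁻¹,
        (rootSysU hσq hσ2 hm hg).S 0 1 s₀ * u * ((rootSysU hσq hσ2 hm hg).S 0 1 s₀)⁻¹} :
          Set ↥(Cfsg.SU n F q))) x₀ s₀ s₁ := by
  set R := rootSysU hσq hσ2 hm hg with hR
  set K := Subgroup.closure ({u, (R.T 0 x₀ * R.S 0 1 s₁) * u * (R.T 0 x₀ * R.S 0 1 s₁)⁻¹,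
        R.S 0 1 s₀ * u * (R.S 0 1 s₀)⁻¹} : Set ↥(Cfsg.SU n F q)) with hK
  have hu : u ∈ K := Subgroup.subset_closure (by simp)
  have hgm : (R.T 0 x₀ * R.S 0 1 s₁) * u * (R.T 0 x₀ * R.S 0 1 s₁)⁻¹ ∈ K :=
    Subgroup.subset_closure (by simp)
  have hhm : R.S 0 1 s₀ * u * (R.S 0 1 s₀)⁻¹ ∈ K := Subgroup.subset_closure (by simp)
  have hshz : ∀ (i : ℤ) (x : ↥(Cfsg.SU n F q)), x ∈ K → R.shz i x ∈ K := by
    intro i x hx
    rw [hR, shz_eq]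
    exact K.mul_mem (K.mul_mem (K.zpow_mem hu i) hx) (K.inv_mem (K.zpow_mem hu i))
  refine ⟨?_, ?_, ?_⟩
  · intro x
    rw [hR, rootSysU_sh]
    constructor
    · intro hx
      have : x = u⁻¹ * (u * x * u⁻¹) * u := by group
      rw [this]
      exact K.mul_mem (K.mul_mem (K.inv_mem hu) hx) hu
    · intro hx
      exact K.mul_mem (K.mul_mem hu hx) (K.inv_mem hu)
  · intro j k
    have h1 := conj_comm_mem K u (R.T 0 x₀ * R.S 0 1 s₁) hu hgm (j - k)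
    rw [← shz_eq hσq hσ2 hm hg, ← hR, map_inv, map_mul, R.shz_T, R.shz_S] at h1
    have h2 := hshz k _ h1
    rw [map_mul, map_mul, map_inv, map_mul, R.shz_T, R.shz_S, R.shz_T, R.shz_S] at h2
    have e1 : (0 : ℤ) + k = k := by ring
    have e2 : (1 : ℤ) + k = k + 1 := by ring
    have e3 : (0 : ℤ) + (j - k) + k = j := by ring
    have e4 : (1 : ℤ) + (j - k) + k = j + 1 := by ring
    rwa [e1, e2, e3, e4] at h2
  · intro j k
    have h1 := conj_comm_mem K u (R.S 0 1 s₀) hu hhm (j - k)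
    rw [← shz_eq hσq hσ2 hm hg, ← hR, map_inv, R.shz_S] at h1
    have h2 := hshz k _ h1
    rw [map_mul, map_inv, R.shz_S, R.shz_S] at h2
    have e1 : (0 : ℤ) + k = k := by ring
    have e2 : (1 : ℤ) + k = k + 1 := by ring
    have e3 : (0 : ℤ) + (j - k) + k = j := by ring
    have e4 : (1 : ℤ) + (j - k) + k = j + 1 := by ring
    rwa [e1, e2, e3, e4] at h2

end Cfsg.Agent.Lib.Helper53.SUReg
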