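import Cfsg.Agent.Lib.Helper53.SUReg.Basic

set_option autoImplicit false

/-!
helper53, S2282: the case `m = 2`: the additive group `M2 R H k` of the triples `(x₁, x₂, p)` with
`T k x₁ * T (k+1) x₂ * S k (k+1) p ∈ H`.
-/

namespace Cfsg.Agent.Lib.Helper53.SUReg

variable {F : Type*} [Field F] {σ : F →+* F} {G : Type*} [Group G] {φ : F}

namespace URootSys

variable (R : URootSys F σ G 2 φ)

theorem c2_T01 (k : ℤ) (x y : F) : Commute (R.T k x) (R.T (k + 1) y) := by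
  apply R.TT_comm
  rw [abs_lt]; constructor <;> push_cast <;> linarith

theorem c2_T0S (k : ℤ) (x s : F) : Commute (R.T k x) (R.S k (k + 1) s) := by
  apply R.TS_comm
  · rw [abs_lt]; constructor <;> push_cast <;> linarith
  · rw [abs_lt]; constructor <;> push_cast <;> linarith

theorem c2_T1S (k : ℤ) (x s : F) : Commute (R.T (k + 1) x) (R.S k (k + 1) s) := by
  apply R.TS_comm
  · rw [abs_lt]; constructor <;> push_cast <;> linarith
  · rw [abs_lt]; constructor <;> push_cast <;> linarith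

/-- the product of two normal forms -/
theorem nf_mul (k : ℤ) (x₁ x₂ p y₁ y₂ r : F) :
    (R.T k x₁ * R.T (k + 1) x₂ * R.S k (k + 1) p) * (R.T k y₁ * R.T (k + 1) y₂ * R.S k (k + 1) r) =
      R.T k (x₁ + y₁) * R.T (k + 1) (x₂ + y₂) * R.S k (k + 1) (p + r) := by
  rw [R.T_add, R.T_add, R.S_add]
  have h1 := (R.c2_T0S k y₁ p).eq
  have h2 := (R.c2_T1S k y₂ p).eq
  have h3 := (R.c2_T01 k y₁ x₂).eq
  calc R.T k x₁ * R.T (k + 1) x₂ * R.S k (k + 1) p * (R.T k y₁ * R.T (k + 1) y₂ * R.S k (k + 1) r)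
      = R.T k x₁ * R.T (k + 1) x₂ * (R.S k (k + 1) p * R.T k y₁) * R.T (k + 1) y₂ *
          R.S k (k + 1) r := by group
    _ = R.T k x₁ * R.T (k + 1) x₂ * (R.T k y₁ * R.S k (k + 1) p) * R.T (k + 1) y₂ *
          R.S k (k + 1) r := by rw [h1]
    _ = R.T k x₁ * (R.T (k + 1) x₂ * R.T k y₁) * (R.S k (k + 1) p * R.T (k + 1) y₂) *
          R.S k (k + 1) r := by group
    _ = R.T k x₁ * (R.T k y₁ * R.T (k + 1) x₂) * (R.T (k + 1) y₂ * R.S k (k + 1) p) *
          R.S k (k + 1) r := by rw [h2, h3]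
    _ = R.T k x₁ * R.T k y₁ * (R.T (k + 1) x₂ * R.T (k + 1) y₂) *
          (R.S k (k + 1) p * R.S k (k + 1) r) := by group

/-- the inverse of a normal form -/
theorem nf_inv (k : ℤ) (x₁ x₂ p : F) :
    (R.T k x₁ * R.T (k + 1) x₂ * R.S k (k + 1) p)⁻¹ =
      R.T k (-x₁) * R.T (k + 1) (-x₂) * R.S k (k + 1) (-p) := by
  rw [inv_eq_iff_mul_eq_one, R.nf_mul, add_neg_cancel, add_neg_cancel, add_neg_cancel, R.T_zero,
    R.T_zero, R.S_zero, one_mul, one_mul]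

end URootSys

/-- the additive group of the `(x₁, x₂, p)` with `T k x₁ * T (k+1) x₂ * S k (k+1) p ∈ H` -/
def M2 (R : URootSys F σ G 2 φ) (H : Subgroup G) (k : ℤ) : AddSubgroup (F × F × F) where
  carrier := {z | R.T k z.1 * R.T (k + 1) z.2.1 * R.S k (k + 1) z.2.2 ∈ H}
  zero_mem' := by
    show R.T k 0 * R.T (k + 1) 0 * R.S k (k + 1) 0 ∈ H
    rw [R.T_zero, R.T_zero, R.S_zero, one_mul, one_mul]; exact H.one_mem
  add_mem' := by
    intro z w hz hw
    show R.T k (z.1 + w.1) * R.T (k + 1) (z.2.1 + w.2.1) * R.S k (k + 1) (z.2.2 + w.2.2) ∈ H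
    rw [← R.nf_mul]
    exact H.mul_mem hz hw
  neg_mem' := by
    intro z hz
    show R.T k (-z.1) * R.T (k + 1) (-z.2.1) * R.S k (k + 1) (-z.2.2) ∈ H
    rw [← R.nf_inv]
    exact H.inv_mem hz

theorem mem_M2 {R : URootSys F σ G 2 φ} {H : Subgroup G} (k : ℤ) (x₁ x₂ p : F) :
    (x₁, x₂, p) ∈ M2 R H k ↔ R.T k x₁ * R.T (k + 1) x₂ * R.S k (k + 1) p ∈ H := Iff.rfl

end Cfsg.Agent.Lib.Helper53.SUReg
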