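import Cfsg.Agent.Lib.Helper53.SUReg.InstGen
import Cfsg.Agent.Lib.Helper53.SUReg.Abs3
import Cfsg.Agent.Lib.Helper15.SURegAbs2
import Cfsg.Agent.Lib.Helper30.SURegQXC
import Cfsg.Agent.Lib.Helper30.SURegTrans
import Cfsg.Agent.Lib.Helper66.SURegEndOf
import Cfsg.Agent.Lib.Helper33.SURegTransfer
import Cfsg.Agent.Lib.Helper65.SURegMForm
import Cfsg.Agent.Lib.Helper92.SURegMiso
import Cfsg.Agent.Lib.Helper92.SURegReg
import Cfsg.Agent.Lib.Helper61.SURegMDet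
import Cfsg.Agent.Lib.Helper61.SURegMGram
import Cfsg.Agent.Lib.Helper61.SURegMTri
import Cfsg.Agent.Lib.Helper66.SURegParam
import Cfsg.Agent.Lib.Helper13.SU3GMain
import Cfsg.Agent.Lib.Helper23.SU3GHilb

set_option autoImplicit false

/-!
helper53, S2282: `SU_n(q)`, `n ≥ 3` odd, `(n, q) ≠ (3, 2)`, is generated by three conjugate regular
unipotent elements (final assembly).
-/

namespace Cfsg.Agent.Lib.Helper53.SUReg

open Matrix Cfsg.Agent.S0837 Cfsg.Agent.S0781 Cfsg.Agent.S2644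
open Cfsg.Agent.Lib.Helper66.SUReg

variable {F : Type*} [Field F]

/-- [TRANSFER] the pair `(u, a)` in the standard `SU` -/
theorem exists_ugood [Finite F] {σ : F →+* F} {q : ℕ} {m : ℕ} (hσq : ∀ x, σ x = x ^ q)
    (hσ : σ ≠ RingHom.id F) (hσ2 : ∀ x, σ (σ x) = x) (hm : 1 ≤ m) :
    ∃ (u : ↥(Cfsg.SU (2 * m + 1) F q)) (a : Fin (2 * m + 1) → F) (φ : F),
      φ ≠ 0 ∧ UGood σ q m u a φ :=
  Cfsg.Agent.Lib.Helper33.SURegTransfer.exists_ugood_of hσq hσ hσ2 hm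
    (exists_model_basis hσ hσ2 m)
    (fun κ hκ x y => Cfsg.Agent.Lib.Helper92.SUReg.uM_form hσ2 κ hκ x y)
    (fun κ => Cfsg.Agent.Lib.Helper61.SUReg.uM_det κ)
    (fun κ => Cfsg.Agent.Lib.Helper61.SUReg.uM_nil κ)
    (fun κ v => Cfsg.Agent.Lib.Helper61.SUReg.uM_span κ hm v)
    (fun κ d hd => Cfsg.Agent.Lib.Helper61.SUReg.uM_gram0 κ d hd)
    (fun κ => Cfsg.Agent.Lib.Helper61.SUReg.uM_gramm hσ2 κ hm)

/-- [END] all root elements in `H` force `H = ⊤` -/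
theorem eq_top_of_roots [Finite F] {n : ℕ} {σ : F →+* F} {q : ℕ} {m : ℕ}
    {u : ↥(Cfsg.SU n F q)} {a : Fin n → F} {φ : F}
    (hσq : ∀ x, σ x = x ^ q) (hσ : σ ≠ RingHom.id F) (hσ2 : ∀ x, σ (σ x) = x)
    (hn : n = 2 * m + 1) (hm : 2 ≤ m) (hφ : φ ≠ 0) (hg : UGood σ q m u a φ)
    (H : Subgroup ↥(Cfsg.SU n F q)) (hu : u ∈ H)
    (hT : ∀ (k : ℤ) (x : F), tauU σ q (uvec q u a k) x ∈ H)
    (hS : ∀ (j k : ℤ), j ≠ k → |j - k| < (m : ℤ) → ∀ s : F,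
      sigU σ q (uvec q u a j) (uvec q u a k) s ∈ H) : H = ⊤ :=
  eq_top_of_roots_of hσq hσ hσ2 hn hm hφ hg H hu
    (fun w hw => Cfsg.Agent.Lib.Helper30.SUReg.siegel_mem hσq hσ hσ2 hn hm hφ hg H hu hT hS w hw)
    (fun x y hx hy hxy hQx hQy p t hp =>
      Cfsg.Agent.Lib.Helper30.SUReg.tv_mem_of_siegel hσq hσ hσ2 H x y hx hy hxy hQx hQy p t hp)

/-- [PACK] the case `n = 2m+1 ≥ 5` -/
theorem su_three_conj_odd [Fintype F] (q : ℕ) (hF : Fintype.card F = q ^ 2) (m : ℕ) (hm : 2 ≤ m) :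
    ∃ u g h : ↥(Cfsg.SU (2 * m + 1) F q),
      (IsNilpotent (((u : Matrix.SpecialLinearGroup (Fin (2 * m + 1)) F) :
          Matrix (Fin (2 * m + 1)) (Fin (2 * m + 1)) F) - 1) ∧
        (((u : Matrix.SpecialLinearGroup (Fin (2 * m + 1)) F) :
          Matrix (Fin (2 * m + 1)) (Fin (2 * m + 1)) F) - 1) ^ (2 * m + 1 - 1) ≠ 0) ∧
      Subgroup.closure ({u, g * u * g⁻¹, h * u * h⁻¹} : Set ↥(Cfsg.SU (2 * m + 1) F q)) = ⊤ := by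
  classical
  obtain ⟨σ, hσq, hσ2⟩ := Cfsg.Agent.Lib.Helper13.exists_frob hF
  have hσ : σ ≠ RingHom.id F := Cfsg.Agent.S0837.frob_ne_id (σ := σ) hF hσq
  have hm1 : 1 ≤ m := by omega
  obtain ⟨u, a, φ, hφ, hg⟩ := exists_ugood (q := q) hσq hσ hσ2 (m := m) hm1
  obtain ⟨ζ, hζ, hθ⟩ := exists_params hσ hσ2
  have hTr : ∀ ρ : F, σ ρ = ρ → ∃ y : F, y + σ y = ρ :=
    fun ρ hρ => Cfsg.Agent.Lib.Helper23.SU3G.exists_trace_eq σ hσ hσ2 ρ hρ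
  set R := rootSysU hσq hσ2 hm1 hg with hR
  set s₀ : F := φ⁻¹ with hs₀
  set s₁ : F := ζ * φ⁻¹ with hs₁
  have h0 : s₀ * φ = 1 := by rw [hs₀]; exact inv_mul_cancel₀ hφ
  have h1 : s₁ * φ = ζ := by rw [hs₁, mul_assoc, inv_mul_cancel₀ hφ, mul_one]
  refine ⟨u, R.T 0 ζ * R.S 0 1 s₁, R.S 0 1 s₀,
    ⟨⟨2 * m + 1, hg.nil⟩, Cfsg.Agent.Lib.Helper92.SUReg.reg_of_ugood (by omega) hg⟩, ?_⟩
  set H := Subgroup.closure ({u, (R.T 0 ζ * R.S 0 1 s₁) * u * (R.T 0 ζ * R.S 0 1 s₁)⁻¹,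
      R.S 0 1 s₀ * u * (R.S 0 1 s₀)⁻¹} : Set ↥(Cfsg.SU (2 * m + 1) F q)) with hH
  have hG : UGen R H ζ s₀ s₁ := ugen_of_closure hσq hσ2 hm1 hg ζ s₀ s₁
  have hu : u ∈ H := Subgroup.subset_closure (by simp)
  have hall : (∀ (k : ℤ) (x : F), R.T k x ∈ H) ∧
      (∀ (j k : ℤ), j ≠ k → |j - k| < (m : ℤ) → ∀ s : F, R.S j k s ∈ H) := by
    rcases Nat.lt_or_ge m 3 with h3 | h3
    · obtain rfl : m = 2 := by omega
      exact all_mem_of_ugen2 hσ2 hφ hG ζ h0 h1 hζ hθ hζ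
    · exact all_mem_of_ugen3 h3 hσ2 hφ hG ζ h0 h1 hζ ⟨q, hσq ζ⟩ hθ hζ hTr
  exact eq_top_of_roots hσq hσ hσ2 rfl hm hφ hg H hu hall.1 hall.2

/-- `SU_n(q)`, `n ≥ 3` odd, `(n, q) ≠ (3, 2)`, is generated by three conjugate regular unipotent
elements -/
theorem su_three_conj [Fintype F] (q : ℕ) (hF : Fintype.card F = q ^ 2) (n : ℕ) (hn : 3 ≤ n)
    (hodd : Odd n) (h32 : ¬ (n = 3 ∧ q = 2)) :
    ∃ u g h : ↥(Cfsg.SU n F q),
      (IsNilpotent (((u : Matrix.SpecialLinearGroup (Fin n) F) : Matrix (Fin n) (Fin n) F) - 1) ∧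
        (((u : Matrix.SpecialLinearGroup (Fin n) F) : Matrix (Fin n) (Fin n) F) - 1) ^ (n - 1) ≠ 0) ∧
      Subgroup.closure ({u, g * u * g⁻¹, h * u * h⁻¹} : Set ↥(Cfsg.SU n F q)) = ⊤ := by
  obtain ⟨m, rfl⟩ := hodd
  rcases Nat.lt_or_ge m 2 with h2 | h2
  · obtain rfl : m = 1 := by omega
    have hq2 : 2 ≤ q := Cfsg.Agent.Lib.Helper13.two_le_of_card_eq_sq hF
    have hq : 3 ≤ q := by
      rcases Nat.lt_or_ge q 3 with h | h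
      · exact absurd ⟨rfl, by omega⟩ h32
      · exact h
    obtain ⟨u, g, hu, hcl⟩ := Cfsg.Agent.Lib.Helper13.SU3G.su3_two_conj_reg_unip (F := F) q hq hF
    refine ⟨u, g, 1, hu, ?_⟩
    rw [eq_top_iff, ← hcl]
    apply Subgroup.closure_mono
    intro x hx
    rcases hx with rfl | rfl
    · simp
    · simp
  · exact su_three_conj_odd q hF m h2

end Cfsg.Agent.Lib.Helper53.SUReg
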